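import Cfsg.Agent.H930.FE.Tab3

/-!
# `F₄`: the coordinates of the unipotent radical of the parabolic of type `C₃` (S2452, `F₄(q)`, `q` even)

`cf r u` : the coordinate of `u ∈ V` at the long root `r` with `x 3 = 1` (modulo the six short root groups and the
highest root group).
-/

set_option autoImplicit false
set_option linter.unusedSectionVars false

namespace Cfsg.Agent.H930.FE

open CoxeterSystem Cfsg.Agent.ChevalleyStructure.CoxeterGeom Cfsg.Agent.Tits.Roots Cfsg.Agent.Tits.Core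
  Cfsg.Agent.Tits.Exchange Cfsg.Agent.Nodes.Reps Cfsg.Agent.Nodes.BNOf Cfsg.Agent.Nodes.StabComb
  Cfsg.Agent.Nodes.Bruhat Cfsg.Agent.Nodes.OppDec Cfsg.Agent.Nodes.LeviDec Cfsg.Agent.Nodes.NormX
  Cfsg.Agent.Nodes.Coroot Cfsg.Agent.Nodes.RGDChev Cfsg.Agent.KFacts.RgdPar Cfsg.Agent.KFacts.RgdTI
  Cfsg.Agent.KFacts.RgdCent Cfsg.Agent.KFacts.RgdChevCoord Cfsg.Agent.Nodes.ChevCls
  Cfsg.Agent.OddHalf.NI.ModelChev Cfsg.Agent.H225.PPow
open Cfsg.Lie Cfsg.Agent.ChevalleyStructure Cfsg.Agent.ChevalleyStructure.Elts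
  Cfsg.Agent.ChevalleyStructure.RootVec Cfsg.Agent.ChevalleyStructure.NPerm
  Cfsg.Agent.ChevalleyStructure.CoxeterGeomTypes
open Cfsg.Agent.H701.F43.Cent (hF cF)
open Cfsg.Agent.H520.FC
open Cfsg.Agent.H930.FC (xr coe_xr xr_add xr_zero xr_neg xr_inj xr_mem mem_X wd wd_cons conj_xr Q mem_Q Q_le Q_mono
  conj_Q Sup_eq wd_mem nroots refl_xr)
open scoped commutatorElement

universe u

variable {K : Type u} [Field K]

/-- the nodes of `C₃` -/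
abbrev J3 : Set (Fin 4) := {k | k ≠ 3}

theorem mem_NotJ3 {x : Fin 4 → ℤ} : x ∈ NotJ cF hF.isCartan J3 ↔ IsRoot cF hF.isCartan x ∧ 0 < x 3 := by
  constructor
  · rintro ⟨h1, -, k, hk, h2⟩
    have h3 : k = 3 := by
      by_contra h
      exact hk h
    exact ⟨h1, h3 ▸ h2⟩
  · rintro ⟨h1, h2⟩
    exact ⟨h1, nonneg_of_pos_apply h1 h2, 3, fun h => h rfl, h2⟩

theorem mem_RootsJ3 {x : Fin 4 → ℤ} : x ∈ RootsJ cF hF.isCartan J3 ↔ IsRoot cF hF.isCartan x ∧ x 3 = 0 := by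
  constructor
  · rintro ⟨h1, h2⟩
    exact ⟨h1, h2 3 fun h => h rfl⟩
  · rintro ⟨h1, h2⟩
    refine ⟨h1, fun k hk => ?_⟩
    have h3 : k = 3 := by
      by_contra h
      exact hk h
    rw [h3, h2]

theorem VK_eq : VK K J3 = Q K {r | r ∈ IV} := by
  refine Sup_eq (fun r hr => lt_IV r hr) fun x => ?_
  rw [mem_NotJ3]
  constructor
  · rintro ⟨h1, h2⟩
    obtain ⟨r, hr, rfl⟩ := (isRoot_iff hF cF x).1 h1
    exact ⟨r, (tabV r hr).1 h2, rfl⟩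
  · rintro ⟨r, hr, rfl⟩
    exact ⟨(isRoot_iff hF cF _).2 ⟨r, lt_IV r hr, rfl⟩, (tabV r (lt_IV r hr)).2 hr⟩

/-! ### conjugation -/

/-- the sets between `I2` and `IV` give normal subgroups -/
theorem nrm {S : Set ℕ} (h2 : ∀ r ∈ I2, r ∈ S) (hS : ∀ r ∈ S, r ∈ IV) {g v : ↥(chevF4.group K)}
    (hg : g ∈ Q K {r | r ∈ IV}) (hv : v ∈ Q K S) : g * v * g⁻¹ ∈ Q K S := by
  have key : ∀ s ∈ IV, ∀ t : K, ∀ v ∈ Q K S, xr s t * v * (xr s t)⁻¹ ∈ Q K S := by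
    intro s hs t v hv
    refine conj_Q (fun r hr a => ?_) hv
    by_cases h : s = r
    · subst h
      have e : (xr s t * xr s a * (xr s t)⁻¹ : ↥(chevF4.group K)) = xr s a := by
        rw [← xr_add (lt_IV s hs), add_comm, xr_add (lt_IV s hs)]; group
      rw [e]
      exact mem_Q hr a
    · rw [conj_xr (lt_IV r (hS r hr)) (lt_IV s hs) h (neg_IV r (hS r hr) s hs)]
      exact mul_mem (wd_mem (fun c hc => h2 _ (tabVV r (hS r hr) s hs c hc)) _ _) (mem_Q hr a)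
  have h1 : Q K {r | r ∈ IV} ≤ Subgroup.normalizer (Q K S : Set ↥(chevF4.group K)) := by
    refine Q_le fun s hs t => ?_
    rw [Subgroup.mem_normalizer_iff]
    intro v
    refine ⟨key s hs t v, fun hv => ?_⟩
    have h3 := key s hs (-t) _ hv
    rw [xr_neg (lt_IV s hs)] at h3
    have e : (xr s t)⁻¹ * (xr s t * v * (xr s t)⁻¹) * ((xr s t)⁻¹)⁻¹ = v := by group
    rwa [e] at h3
  exact (Subgroup.mem_normalizer_iff.1 (h1 hg) v).1 hv

/-- the roots of `V` except `β` -/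
abbrev Nb (β : ℕ) : Set ℕ := {r | r ∈ IV ∧ r ≠ β}

theorem Nb_two {β : ℕ} (hβ : β ∈ I1) : ∀ r ∈ I2, r ∈ Nb β :=
  fun r hr => ⟨I2_sub r hr, fun h => I1_not β hβ (h ▸ hr)⟩

/-- a decomposition -/
theorem dec {S : Set ℕ} {β : ℕ} (h2 : ∀ r ∈ I2, r ∈ S \ {β}) (hS : ∀ r ∈ S, r ∈ IV) (hβ : β ∈ S)
    {u : ↥(chevF4.group K)} (hu : u ∈ Q K S) : ∃ a : K, ∃ v ∈ Q K (S \ {β}), u = xr β a * v := by
  have hβ' := hS β hβ
  unfold Q at hu
  induction hu using Subgroup.closure_induction with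
  | mem x hx =>
    obtain ⟨r, hr, a, rfl⟩ := hx
    by_cases h : r = β
    · subst h
      exact ⟨a, 1, one_mem _, (mul_one _).symm⟩
    · exact ⟨0, xr r a, mem_Q (S := S \ {β}) ⟨hr, h⟩ a, by rw [xr_zero (lt_IV β hβ'), one_mul]⟩
  | one => exact ⟨0, 1, one_mem _, by rw [xr_zero (lt_IV β hβ'), one_mul]⟩
  | mul x y _ _ ihx ihy =>
    obtain ⟨a, v, hv, rfl⟩ := ihx
    obtain ⟨b, w, hw, rfl⟩ := ihy
    refine ⟨a + b, xr β (-b) * v * (xr β (-b))⁻¹ * w, mul_mem (nrm h2 (fun r hr => hS r hr.1) (mem_Q hβ' _) hv) hw, ?_⟩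
    rw [xr_add (lt_IV β hβ'), xr_neg (lt_IV β hβ')]
    group
  | inv x _ ih =>
    obtain ⟨a, v, hv, rfl⟩ := ih
    refine ⟨-a, xr β a * v⁻¹ * (xr β a)⁻¹, nrm h2 (fun r hr => hS r hr.1) (mem_Q hβ' _) (inv_mem hv), ?_⟩
    rw [xr_neg (lt_IV β hβ')]
    group

/-! ### the reflections -/

theorem refl_Q {i : Fin 4} {S S' : Set ℕ} (hS : ∀ r ∈ S, r ∈ IV) (h : ∀ r ∈ S, chevF4.reflectRoot i r ∈ S')
    {v : ↥(chevF4.group K)} (hv : v ∈ Q K S) : nc hF K i * v * (nc hF K i)⁻¹ ∈ Q K S' := by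
  refine conj_Q (fun r hr a => ?_) hv
  obtain ⟨c, -, hc⟩ := refl_xr (K := K) (i := i) (lt_IV r (hS r hr))
  rw [hc]
  exact mem_Q (h r hr) _

theorem refl_Nb {i : Fin 4} (hi : i ≠ 3) {β : ℕ} (_hβ : β ∈ IV) {v : ↥(chevF4.group K)} (hv : v ∈ Q K (Nb β)) :
    nc hF K i * v * (nc hF K i)⁻¹ ∈ Q K (Nb (chevF4.reflectRoot i β)) := by
  refine refl_Q (S := Nb β) (S' := Nb (chevF4.reflectRoot i β)) (fun r hr => hr.1)
    (fun r hr => ⟨tabR i hi r hr.1, fun h => hr.2 ?_⟩) hv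
  rw [← tabR2 i hi r hr.1, h, tabR2 i hi β _hβ]

variable [Finite K]

/-- disjointness -/
theorem disj24 {a : K} (h : (xr 24 a : ↥(chevF4.group K)) ∈ Q K (Nb 24)) : a = 0 := by
  obtain ⟨p, hpc⟩ := CharP.exists K
  have : Fact p.Prime := ⟨CharP.char_is_prime K p⟩
  have : Finite CoxeterMatrix.F₄.Group := finite_W hF cF
  have R := rgd (K := K) hF cF p
  have h24 : 24 < chevF4.nroots := by rw [nroots]; norm_num
  have e24 : vec chevF4 4 24 = sr (3 : Fin 4) := by rw [← simple3]; exact vec_simple hF 3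
  have h1 : (xr 24 a : ↥(chevF4.group K)) ∈ XX chevF4 4 K (sr (3 : Fin 4)) := by
    rw [← e24]
    exact xr_mem h24 a
  have h2 : Q K (Nb 24) ≤ RGD.Sup (XX chevF4 4 K) (RGD.PosNe cF hF.isCartan 3) := by
    refine Q_le fun r hr b => ?_
    refine RGD.le_Sup ?_ (xr_mem (lt_IV r hr.1) b)
    have h3 : vec chevF4 4 r ∈ NotJ cF hF.isCartan J3 :=
      mem_NotJ3.2 ⟨(isRoot_iff hF cF _).2 ⟨r, lt_IV r hr.1, rfl⟩, (tabV r (lt_IV r hr.1)).2 hr.1⟩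
    refine ⟨h3.1, h3.2.1, fun h4 => hr.2 ?_⟩
    rw [← e24] at h4
    exact vec_inj hF (lt_IV r hr.1) h24 h4
  have h3 := eq_one_of_mem_PosNe R h1 (h2 h)
  rw [← xr_zero h24] at h3
  exact xr_inj h24 h3

theorem disj_refl {i : Fin 4} (hi : i ≠ 3) {β : ℕ} (hβ : β ∈ IV)
    (h : ∀ a : K, (xr β a : ↥(chevF4.group K)) ∈ Q K (Nb β) → a = 0) {a : K}
    (ha : (xr (chevF4.reflectRoot i β) a : ↥(chevF4.group K)) ∈ Q K (Nb (chevF4.reflectRoot i β))) : a = 0 := by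
  have h1 := refl_Nb hi (tabR i hi β hβ) ha
  obtain ⟨c, hc0, hc⟩ := refl_xr (K := K) (i := i) (lt_IV _ (tabR i hi β hβ))
  rw [hc, tabR2 i hi β hβ] at h1
  exact (mul_eq_zero.1 (h _ h1)).resolve_left hc0

/-- everything on `I1` is reached from `24` -/
theorem reach {C : ℕ → Prop} (h0 : C 24) (hC : ∀ i : Fin 4, i ≠ 3 → ∀ r ∈ I1, C r → C (chevF4.reflectRoot i r)) :
    ∀ r ∈ I1, C r := by
  obtain ⟨e1, e2, e3, e4, e5, e6, e7⟩ := reach1
  have h1 : C 26 := e1 ▸ hC 2 (by decide) 24 (by decide) h0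
  have h2 : C 31 := e2 ▸ hC 1 (by decide) 26 (by decide) h1
  have h3 : C 32 := e3 ▸ hC 2 (by decide) 31 (by decide) h2
  have h4 : C 42 := e4 ▸ hC 0 (by decide) 31 (by decide) h2
  have h5 : C 43 := e5 ▸ hC 0 (by decide) 32 (by decide) h3
  have h6 : C 45 := e6 ▸ hC 1 (by decide) 43 (by decide) h5
  have h7 : C 46 := e7 ▸ hC 2 (by decide) 45 (by decide) h6
  intro r hr
  simp only [I1, List.mem_cons, List.not_mem_nil, or_false] at hr
  rcases hr with rfl | rfl | rfl | rfl | rfl | rfl | rfl | rfl <;> assumption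

theorem disj : ∀ β ∈ I1, ∀ a : K, (xr β a : ↥(chevF4.group K)) ∈ Q K (Nb β) → a = 0 := by
  refine reach (fun a => disj24) fun i hi r hr h a ha => ?_
  exact disj_refl hi (I1_sub r hr) h ha

/-! ### the coordinates -/

open Classical in
/-- the coordinate at `β` -/
noncomputable def cf (β : ℕ) (u : ↥(chevF4.group K)) : K :=
  if h : ∃ a : K, ∃ v ∈ Q K (Nb β), u = xr β a * v then h.choose else 0

theorem Nb_eq (β : ℕ) : ({r | r ∈ IV} : Set ℕ) \ {β} = Nb β := rfl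

theorem cf_eq {β : ℕ} (hβ : β ∈ I1) (a : K) {v : ↥(chevF4.group K)} (hv : v ∈ Q K (Nb β)) : cf β (xr β a * v) = a := by
  have h : ∃ b : K, ∃ w ∈ Q K (Nb β), xr β a * v = xr β b * w := ⟨a, v, hv, rfl⟩
  have h1 : cf β (xr β a * v) = h.choose := dif_pos h
  obtain ⟨w, hw, e⟩ := h.choose_spec
  rw [h1]
  have hlt := lt_IV β (I1_sub β hβ)
  generalize h.choose = b at e ⊢
  have h2 : (xr β (-b + a) : ↥(chevF4.group K)) = w * v⁻¹ := by
    rw [xr_add hlt, xr_neg hlt, eq_mul_inv_iff_mul_eq, mul_assoc, e, inv_mul_cancel_left]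
  have h3 := disj β hβ (-b + a) (by rw [h2]; exact mul_mem hw (inv_mem hv))
  exact (neg_add_eq_zero.1 h3)

theorem cf_spec {β : ℕ} (hβ : β ∈ I1) {u : ↥(chevF4.group K)} (hu : u ∈ Q K {r | r ∈ IV}) :
    ∃ v ∈ Q K (Nb β), u = xr β (cf β u) * v := by
  obtain ⟨a, v, hv, rfl⟩ := dec (β := β) (S := {r | r ∈ IV}) (fun r hr => Nb_two hβ r hr) (fun _ h => h) (I1_sub β hβ) hu
  exact ⟨v, hv, by rw [cf_eq hβ a hv]⟩

theorem cf_mul {β : ℕ} (hβ : β ∈ I1) {u v : ↥(chevF4.group K)} (hu : u ∈ Q K {r | r ∈ IV})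
    (hv : v ∈ Q K {r | r ∈ IV}) : cf β (u * v) = cf β u + cf β v := by
  have hlt := lt_IV β (I1_sub β hβ)
  obtain ⟨m, hm, e1⟩ := cf_spec hβ hu
  obtain ⟨m', hm', e2⟩ := cf_spec hβ hv
  have e : u * v = xr β (cf β u + cf β v) * (xr β (-cf β v) * m * (xr β (-cf β v))⁻¹ * m') := by
    rw [xr_add hlt, xr_neg hlt]
    nth_rw 1 [e1, e2]
    group
  rw [e]
  exact cf_eq hβ _ (mul_mem (nrm (Nb_two hβ) (fun r hr => hr.1) (mem_Q (I1_sub β hβ) _) hm) hm')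

theorem cf_of_mem {β : ℕ} (hβ : β ∈ I1) {u : ↥(chevF4.group K)} (hu : u ∈ Q K (Nb β)) : cf β u = 0 := by
  have h1 := cf_eq hβ (0 : K) hu
  rwa [xr_zero (lt_IV β (I1_sub β hβ)), one_mul] at h1

theorem cf_one {β : ℕ} (hβ : β ∈ I1) : cf β (1 : ↥(chevF4.group K)) = 0 := cf_of_mem hβ (one_mem _)

theorem cf_inv {β : ℕ} (hβ : β ∈ I1) {u : ↥(chevF4.group K)} (hu : u ∈ Q K {r | r ∈ IV}) :
    cf β u⁻¹ = -cf β u := by
  have h1 := cf_mul hβ (inv_mem hu) hu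
  rw [inv_mul_cancel, cf_one hβ] at h1
  exact (neg_eq_of_add_eq_zero_left h1.symm).symm

theorem cf_self {β : ℕ} (hβ : β ∈ I1) (a : K) : cf β (xr β a : ↥(chevF4.group K)) = a := by
  have h1 := cf_eq hβ a (one_mem (Q K (Nb β)))
  rwa [mul_one] at h1

theorem cf_ne {β r : ℕ} (hβ : β ∈ I1) (hr : r ∈ IV) (h : r ≠ β) (a : K) : cf β (xr r a : ↥(chevF4.group K)) = 0 :=
  cf_of_mem hβ (mem_Q (S := Nb β) ⟨hr, h⟩ a)

/-- an element all of whose coordinates vanish -/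
theorem mem_two {u : ↥(chevF4.group K)} (hu : u ∈ Q K {r | r ∈ IV}) (h : ∀ β ∈ I1, cf β u = 0) :
    u ∈ Q K {r | r ∈ I2} := by
  have key : ∀ l : List ℕ, (∀ β ∈ l, β ∈ I1) → u ∈ Q K {r | r ∈ IV ∧ r ∉ l} := by
    intro l
    induction l with
    | nil =>
      intro _
      exact Q_mono (S := {r | r ∈ IV}) (S' := {r | r ∈ IV ∧ r ∉ []}) (fun r hr => ⟨hr, List.not_mem_nil⟩) hu
    | cons β l ih =>
      intro hl
      have hβ : β ∈ I1 := hl β List.mem_cons_self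
      have h1 := ih fun γ hγ => hl γ (List.mem_cons_of_mem _ hγ)
      by_cases hm : β ∈ l
      · refine Q_mono (S := {r | r ∈ IV ∧ r ∉ l}) (S' := {r | r ∈ IV ∧ r ∉ β :: l}) (fun r hr => ⟨hr.1, fun h2 => ?_⟩) h1
        rcases List.mem_cons.1 h2 with h3 | h3
        · exact hr.2 (h3 ▸ hm)
        · exact hr.2 h3
      · obtain ⟨a, v, hv, e⟩ := dec (β := β) (S := {r | r ∈ IV ∧ r ∉ l})
          (fun r hr => ⟨⟨I2_sub r hr, fun h2 => I1_not r (hl r (List.mem_cons_of_mem _ h2)) hr⟩,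
            fun h2 => I1_not β hβ (h2 ▸ hr)⟩) (fun _ h => h.1) ⟨I1_sub β hβ, hm⟩ h1
        have h3 : v ∈ Q K (Nb β) :=
          Q_mono (S := {r | r ∈ IV ∧ r ∉ l} \ {β}) (S' := Nb β) (fun r hr => ⟨hr.1.1, hr.2⟩) hv
        have h4 : cf β u = a := by rw [e]; exact cf_eq hβ a h3
        have h5 : a = 0 := by rw [← h4]; exact h β hβ
        rw [e, h5, xr_zero (lt_IV β (I1_sub β hβ)), one_mul]
        refine Q_mono (S := {r | r ∈ IV ∧ r ∉ l} \ {β}) (S' := {r | r ∈ IV ∧ r ∉ β :: l})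
          (fun r hr => ⟨hr.1.1, fun h6 => ?_⟩) hv
        rcases List.mem_cons.1 h6 with h7 | h7
        · exact hr.2 h7
        · exact hr.1.2 h7
  refine Q_mono (fun r hr => ?_) (key I1 fun _ h => h)
  exact (IV_cases r hr.1).resolve_left hr.2

end Cfsg.Agent.H930.FE
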