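import Cfsg.Agent.H930.FE.Crd3
import Cfsg.Agent.H930.FC.Spin

/-!
# `F₄(q)`, `q` even: the classes of the elements of `V` outside of the center, `V` of the parabolic of type `C₃` (S2452)

`spin3` : the class under `P` of `u ∈ V`, not in the group generated by the six short root groups and the highest root
group, has at least `(q - 1) q⁶` elements.
-/

set_option autoImplicit false
set_option linter.unusedSectionVars false

namespace Cfsg.Agent.H930.FE

open CoxeterSystem Cfsg.Agent.ChevalleyStructure.CoxeterGeom Cfsg.Agent.Tits.Roots Cfsg.Agent.Tits.Core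
  Cfsg.Agent.Tits.Exchange Cfsg.Agent.Nodes.Reps Cfsg.Agent.Nodes.BNOf Cfsg.Agent.Nodes.StabComb
  Cfsg.Agent.Nodes.Bruhat Cfsg.Agent.Nodes.OppDec Cfsg.Agent.Nodes.LeviDec Cfsg.Agent.Nodes.NormX
  Cfsg.Agent.Nodes.Coroot Cfsg.Agent.Nodes.RGDChev Cfsg.Agent.KFacts.RgdPar Cfsg.Agent.KFacts.RgdTI
  Cfsg.Agent.KFacts.RgdCent Cfsg.Agent.KFacts.RgdChevCoord Cfsg.Agent.Nodes.ChevCls
  Cfsg.Agent.OddHalf.NI.ModelChev Cfsg.Agent.H225.PPow
open Cfsg.Lie Cfsg.Agent.ChevalleyStructure Cfsg.Agent.ChevalleyStructure.Elts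
  Cfsg.Agent.ChevalleyStructure.RootVec Cfsg.Agent.ChevalleyStructure.NPerm
  Cfsg.Agent.ChevalleyStructure.CoxeterGeomTypes
open Cfsg.Agent.H701.F43.Cent (hF cF)
open Cfsg.Agent.H520.FC
open Cfsg.Agent.H930.FC (xr coe_xr xr_add xr_zero xr_neg xr_inj xr_mem mem_X wd wd_cons conj_xr Q mem_Q Q_le Q_mono
  conj_Q Sup_eq wd_mem nroots refl_xr card_ne_zero cls_finite)

universe u

variable {K : Type u} [Field K]

/-- `V` -/
abbrev Vq (K : Type u) [Field K] : Subgroup ↥(chevF4.group K) := Q K {r | r ∈ IV}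

/-! ### elements of `P` -/

theorem xr_mem_PK {r : ℕ} (hr : r ∈ IM) (a : K) : (xr r a : ↥(chevF4.group K)) ∈ PK K J3 := by
  refine LJ_le_PJ (X_le_LJ ?_ (xr_mem (lt_IM r hr) a))
  exact mem_RootsJ3.2 ⟨(isRoot_iff hF cF _).2 ⟨r, lt_IM r hr, rfl⟩, (tabM r (lt_IM r hr)).2 hr⟩

variable [Finite K]

theorem nc_mem_PK {i : Fin 4} (hi : i ≠ 3) : nc hF K i ∈ PK K J3 := by
  obtain ⟨p, hpc⟩ := CharP.exists K
  have : Fact p.Prime := ⟨CharP.char_is_prime K p⟩
  exact LJ_le_PJ (n_mem_LJ (rgd (K := K) hF cF p) (J := J3) hi)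

theorem T_le_PK : TT chevF4 K ≤ PK K J3 := le_trans T_le_LJ LJ_le_PJ

theorem conj_V {g v : ↥(chevF4.group K)} (hg : g ∈ PK K J3) (hv : v ∈ Vq K) : g * v * g⁻¹ ∈ Vq K := by
  obtain ⟨p, hpc⟩ := CharP.exists K
  have : Fact p.Prime := ⟨CharP.char_is_prime K p⟩
  have h1 := PJ_le_normalizer_VJ (rgd (K := K) hF cF p) J3 hg
  have h2 := (Subgroup.mem_normalizer_iff.1 h1 v).1
  have e : (VJ cF hF.isCartan (XX chevF4 4 K) J3 : Subgroup ↥(chevF4.group K)) = Vq K := VK_eq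
  have h3 : ∀ w : ↥(chevF4.group K), w ∈ VJ cF hF.isCartan (XX chevF4 4 K) J3 ↔ w ∈ Vq K := fun w => by rw [e]
  exact (h3 _).1 (h2 ((h3 _).2 hv))

/-! ### the coordinates after conjugation -/

theorem cf_refl {i : Fin 4} (hi : i ≠ 3) {β : ℕ} (hβ : β ∈ I1) {u : ↥(chevF4.group K)} (hu : u ∈ Vq K)
    (h : cf β u ≠ 0) : cf (chevF4.reflectRoot i β) (nc hF K i * u * (nc hF K i)⁻¹) ≠ 0 := by
  obtain ⟨v, hv, e⟩ := cf_spec hβ hu
  obtain ⟨c, hc0, hc⟩ := refl_xr (K := K) (i := i) (lt_IV _ (I1_sub β hβ))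
  have e2 : nc hF K i * u * (nc hF K i)⁻¹ =
      xr (chevF4.reflectRoot i β) (c * cf β u) * (nc hF K i * v * (nc hF K i)⁻¹) := by
    rw [← hc]
    nth_rw 1 [e]
    group
  rw [e2, cf_eq (tabR1 i hi β hβ) _ (refl_Nb hi (I1_sub β hβ) hv)]
  exact mul_ne_zero hc0 h

/-- a nonzero coordinate can be moved to `24` -/
theorem move : ∀ β ∈ I1, ∀ u ∈ Vq K, cf β u ≠ 0 → ∃ g ∈ PK K J3, cf 24 (g * u * g⁻¹) ≠ 0 := by
  refine reach ?_ ?_
  · intro u _ h
    exact ⟨1, one_mem _, by rwa [one_mul, inv_one, mul_one]⟩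
  · intro i hi r hr ih u hu h
    have h1 := cf_refl hi (tabR1 i hi r hr) hu h
    rw [tabR2 i hi r (I1_sub r hr)] at h1
    obtain ⟨g, hg, h2⟩ := ih _ (conj_V (nc_mem_PK hi) hu) h1
    refine ⟨g * nc hF K i, mul_mem hg (nc_mem_PK hi), ?_⟩
    have e : g * nc hF K i * u * (g * nc hF K i)⁻¹ = g * (nc hF K i * u * (nc hF K i)⁻¹) * g⁻¹ := by group
    rwa [e]

/-- the torus -/
theorem cf_torus {b : K} (hb : b ≠ 0) {u : ↥(chevF4.group K)} (hu : u ∈ Vq K) :
    cf 24 (hc hF 2 b * u * (hc hF 2 b)⁻¹) = b⁻¹ * cf 24 u := by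
  have h24 : 24 ∈ I1 := by decide
  obtain ⟨v, hv, e⟩ := cf_spec h24 hu
  have ht : hc hF 2 b ∈ TT chevF4 K := hc_mem hF 2 hb
  have h1 : ∀ r ∈ IV, ∀ a : K, hc hF 2 b * xr r a * (hc hF 2 b)⁻¹ = xr r (ch hF (vec chevF4 4 r) (hc hF 2 b) * a) :=
    fun r hr a => (act hF (lt_IV r hr) ht).2 a
  have h2 : hc hF 2 b * v * (hc hF 2 b)⁻¹ ∈ Q K (Nb 24) := by
    refine conj_Q (fun r hr a => ?_) hv
    rw [h1 r hr.1]
    exact mem_Q hr _
  have e2 : hc hF 2 b * u * (hc hF 2 b)⁻¹ = xr 24 (b⁻¹ * cf 24 u) * (hc hF 2 b * v * (hc hF 2 b)⁻¹) := by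
    have h3 := h1 24 (I1_sub 24 h24) (cf 24 u)
    rw [ch_hc hF 2 hb (lt_IV 24 (I1_sub 24 h24)), cart24, zpow_neg_one] at h3
    rw [← h3]
    nth_rw 1 [e]
    group
  rw [e2, cf_eq h24 _ h2]

theorem cf_wd {β : ℕ} (hβ : β ∈ I1) (h2 : (2 : K) = 0) (a s : K) : ∀ l : List (ℕ × ℤ × ℕ × ℕ), (∀ c ∈ l, c.1 ∈ IV) →
    cf β (wd l a s : ↥(chevF4.group K)) =
      ((l.filter fun c => c.1 = β ∧ c.2.1 % 2 ≠ 0).map fun c => (c.2.1 : K) * a ^ c.2.2.1 * (-s) ^ c.2.2.2).sum := by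
  intro l
  induction l with
  | nil => intro _; exact cf_one hβ
  | cons c l ih =>
    intro hl
    have h1 : ∀ c ∈ l, c.1 ∈ IV := fun d hd => hl d (List.mem_cons_of_mem _ hd)
    have h3 : c.1 ∈ IV := hl c List.mem_cons_self
    rw [wd_cons, cf_mul hβ (mem_Q h3 _) (wd_mem h1 _ _), ih h1]
    by_cases h : c.1 = β
    · by_cases h4 : c.2.1 % 2 ≠ 0
      · rw [List.filter_cons_of_pos (by simpa using ⟨h, by simpa using h4⟩), List.map_cons, List.sum_cons]
        congr 1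
        rw [h]
        exact cf_self hβ _
      · rw [List.filter_cons_of_neg (by simpa using fun _ => by simpa using h4)]
        have h5 : (c.2.1 : K) = 0 := by
          have h6 : c.2.1 = 2 * (c.2.1 / 2) := by
            have := Int.emod_add_mul_ediv c.2.1 2
            omega
          rw [h6]
          push_cast
          rw [h2, zero_mul]
        rw [h5, zero_mul, zero_mul, h, cf_self hβ, zero_add]
    · rw [List.filter_cons_of_neg (by simpa using fun h7 => absurd h7 h), cf_ne hβ h3 h, zero_add]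

/-- the action of `x_γ(s)` on the coordinates of the targets -/
theorem cf_conj (h2 : (2 : K) = 0) {n m : ℕ} (hn : n < 6) (hm : m ≤ n + 1) (s : K) {u : ↥(chevF4.group K)}
    (hu : u ∈ Vq K) : cf (tg m) (xr (gm n) s * u * (xr (gm n) s)⁻¹) =
      cf (tg m) u + (if m = n + 1 then s ^ ex n * cf 24 u else 0) := by
  have h24 : 24 ∈ I1 := by decide
  have hβ : tg m ∈ I1 := tg_mem m (by omega)
  have hγ := gm_mem n hn
  have hP : (xr (gm n) s : ↥(chevF4.group K)) ∈ PK K J3 := xr_mem_PK hγ s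
  have hu' : u ∈ Vq K := hu
  have hneg : ∀ x : K, -x = x := fun x => by
    have : x + x = 0 := by rw [← two_mul, h2, zero_mul]
    exact neg_eq_of_add_eq_zero_left this
  unfold Vq Q at hu
  induction hu using Subgroup.closure_induction with
  | mem x hx =>
    obtain ⟨r, hr, a, rfl⟩ := hx
    have hr' : r ∈ IV := hr
    obtain ⟨n1, n2⟩ := neg_IM r hr' (gm n) hγ
    have h1 : ∀ c ∈ chevF4.commTerms r (gm n), c.1 ∈ IV := tabMV r hr' (gm n) hγ
    rw [conj_xr (lt_IV r hr') (lt_IM (gm n) hγ) n1 n2, cf_mul hβ (wd_mem h1 _ _) (mem_Q hr' _),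
      cf_wd hβ h2 _ _ _ h1, tabC n hn r hr' m hm, add_comm]
    congr 1
    by_cases hb : m = n + 1
    · rw [if_pos hb]
      by_cases h3 : r = 24
      · rw [if_pos ⟨hb, h3⟩, h3, cf_self h24, List.map_cons, List.map_nil, List.sum_cons, List.sum_nil, add_zero,
          pow_one, hneg s]
        have h4 : (((if n = 2 then -1 else 1 : ℤ)) : K) = 1 := by
          split_ifs
          · push_cast
            rw [hneg]
          · push_cast
            rfl
        rw [h4, one_mul, mul_comm]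
      · rw [if_neg (fun h => h3 h.2), cf_ne h24 hr' h3]
        simp
    · rw [if_neg hb, if_neg (fun h => hb h.1)]
      simp
  | one =>
    rw [mul_one, mul_inv_cancel, cf_one hβ, cf_one h24]
    simp
  | mul x y hx hy ihx ihy =>
    have e : xr (gm n) s * (x * y) * (xr (gm n) s)⁻¹ =
        (xr (gm n) s * x * (xr (gm n) s)⁻¹) * (xr (gm n) s * y * (xr (gm n) s)⁻¹) := by group
    have hx' : x ∈ Vq K := hx
    have hy' : y ∈ Vq K := hy
    rw [e, cf_mul hβ (conj_V hP hx') (conj_V hP hy'), ihx hx', ihy hy', cf_mul hβ hx' hy', cf_mul h24 hx' hy']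
    split_ifs <;> ring
  | inv x hx ih =>
    have e : xr (gm n) s * x⁻¹ * (xr (gm n) s)⁻¹ = (xr (gm n) s * x * (xr (gm n) s)⁻¹)⁻¹ := by group
    have hx' : x ∈ Vq K := hx
    rw [e, cf_inv hβ (conj_V hP hx'), ih hx', cf_inv hβ hx', cf_inv h24 hx']
    split_ifs <;> ring

theorem exists_pow (h2 : (2 : K) = 0) {n : ℕ} (hn : n < 6) (a : K) : ∃ s : K, s ^ ex n = a := by
  have h1 : ex n = 1 ∨ ex n = 2 := by interval_cases n <;> decide
  rcases h1 with h1 | h1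
  · exact ⟨a, by rw [h1, pow_one]⟩
  · rw [h1]
    have hinj : Function.Injective (fun b : K => b ^ 2) := by
      intro b c hbc
      have h3 : (b - c) ^ 2 = 0 := by
        have h4 : b ^ 2 = c ^ 2 := hbc
        have h5 : (b - c) ^ 2 = b ^ 2 - c ^ 2 + 2 * (c ^ 2 - b * c) := by ring
        rw [h5, h4, h2]; ring
      exact sub_eq_zero.1 ((pow_eq_zero_iff two_ne_zero).1 h3)
    exact Finite.surjective_of_injective hinj a

/-- the coordinates of the targets one after the other -/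
theorem run (h2 : (2 : K) = 0) (b : ℕ → K) : ∀ n ≤ 6, ∀ u ∈ Vq K, cf 24 u ≠ 0 → b 0 = cf 24 u →
    ∃ g ∈ PK K J3, ∀ m ≤ n, cf (tg m) (g * u * g⁻¹) = b m := by
  intro n
  induction n with
  | zero =>
    intro _ u _ _ hb
    refine ⟨1, one_mem _, fun m h1 => ?_⟩
    obtain rfl : m = 0 := by omega
    rw [one_mul, inv_one, mul_one, hb]
    rfl
  | succ n ih =>
    intro hn u hu h0 hb
    obtain ⟨g, hg, h1⟩ := ih (by omega) u hu h0 hb
    have e0 : tg 0 = 24 := rfl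
    have hc : cf 24 (g * u * g⁻¹) ≠ 0 := by
      have h3 := h1 0 (Nat.zero_le _)
      rw [e0] at h3
      rw [h3, hb]
      exact h0
    have hgu := conj_V hg hu
    obtain ⟨s, hs⟩ := exists_pow h2 (n := n) (by omega)
      ((b (n + 1) - cf (tg (n + 1)) (g * u * g⁻¹)) / cf 24 (g * u * g⁻¹))
    refine ⟨xr (gm n) s * g, mul_mem (xr_mem_PK (gm_mem n (by omega)) s) hg, fun m h3 => ?_⟩
    have e : xr (gm n) s * g * u * (xr (gm n) s * g)⁻¹ = xr (gm n) s * (g * u * g⁻¹) * (xr (gm n) s)⁻¹ := by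
      group
    rw [e, cf_conj h2 (by omega) h3 s hgu]
    by_cases h4 : m = n + 1
    · rw [if_pos h4, hs, div_mul_cancel₀ _ hc, h4]
      ring
    · rw [if_neg h4, add_zero]
      exact h1 m (by omega)

/-- all the coordinates -/
theorem run' (h2 : (2 : K) = 0) (b : ℕ → K) (hb : b 0 ≠ 0) {u : ↥(chevF4.group K)} (hu : u ∈ Vq K) (h0 : cf 24 u ≠ 0) :
    ∃ g ∈ PK K J3, ∀ m ≤ 6, cf (tg m) (g * u * g⁻¹) = b m := by
  have hl : cf 24 u / b 0 ≠ 0 := div_ne_zero h0 hb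
  have ht : hc hF 2 (cf 24 u / b 0) ∈ PK K J3 := T_le_PK (hc_mem hF 2 hl)
  have h1 : cf 24 (hc hF 2 (cf 24 u / b 0) * u * (hc hF 2 (cf 24 u / b 0))⁻¹) = b 0 := by
    rw [cf_torus hl hu, inv_div, div_mul_cancel₀ _ h0]
  obtain ⟨g, hg, h3⟩ := run h2 b 6 le_rfl _ (conj_V ht hu) (by rw [h1]; exact hb) h1.symm
  refine ⟨g * hc hF 2 (cf 24 u / b 0), mul_mem hg ht, fun m h4 => ?_⟩
  have e : g * hc hF 2 (cf 24 u / b 0) * u * (g * hc hF 2 (cf 24 u / b 0))⁻¹ =
      g * (hc hF 2 (cf 24 u / b 0) * u * (hc hF 2 (cf 24 u / b 0))⁻¹) * g⁻¹ := by group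
  rw [e]
  exact h3 m h4

/-- **The spin layer.** -/
theorem spin3 (h2 : (2 : K) = 0) {u : ↥(chevF4.group K)} (hu : u ∈ VK K J3) (h : u ∉ Q K {r | r ∈ I2}) :
    (Nat.card K - 1) * Nat.card K ^ 6 ≤ Nat.card ↥(cls (PK K J3) u) := by
  rw [VK_eq] at hu
  obtain ⟨β, hβ, h1⟩ : ∃ β ∈ I1, cf β u ≠ 0 := by
    by_contra hne
    push Not at hne
    exact h (mem_two hu hne)
  obtain ⟨k, hk, h3⟩ := move β hβ u hu h1
  have hku := conj_V hk hu
  have key : ∀ f : {a : K // a ≠ 0} × (Fin 6 → K), ∃ x : ↥(cls (PK K J3) u),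
      cf 24 (x : ↥(chevF4.group K)) = f.1 ∧ ∀ i : Fin 6, cf (tg (i + 1)) (x : ↥(chevF4.group K)) = f.2 i := by
    intro f
    let b : ℕ → K := fun n => if n = 0 then f.1 else if hn : n - 1 < 6 then f.2 ⟨n - 1, hn⟩ else 0
    have hb : b 0 = f.1 := if_pos rfl
    obtain ⟨g, hg, h4⟩ := run' h2 b (by rw [hb]; exact f.1.2) hku h3
    refine ⟨⟨g * k * u * (g * k)⁻¹, g * k, mul_mem hg hk, rfl⟩, ?_, fun i => ?_⟩
    · have e : g * k * u * (g * k)⁻¹ = g * (k * u * k⁻¹) * g⁻¹ := by group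
      show cf (tg 0) (g * k * u * (g * k)⁻¹) = _
      rw [e, h4 0 (by omega), hb]
    · have e : g * k * u * (g * k)⁻¹ = g * (k * u * k⁻¹) * g⁻¹ := by group
      show cf (tg (i + 1)) (g * k * u * (g * k)⁻¹) = _
      have hi := i.2
      rw [e, h4 (i + 1) (by omega)]
      show (if (i : ℕ) + 1 = 0 then (f.1 : K) else if hn : (i : ℕ) + 1 - 1 < 6 then f.2 ⟨(i : ℕ) + 1 - 1, hn⟩
        else 0) = _
      rw [if_neg (by omega), dif_pos (by omega)]
      refine congrArg f.2 (Fin.ext ?_)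
      show (i : ℕ) + 1 - 1 = i
      omega
  choose F hF1 hF2 using key
  have hinj : Function.Injective F := by
    rintro ⟨a, v⟩ ⟨a', v'⟩ e
    have h3 := hF1 (a, v)
    have h4 := hF1 (a', v')
    rw [← e, h3] at h4
    have h5 : ∀ i : Fin 6, v i = v' i := by
      intro i
      have h6 := hF2 (a, v) i
      have h7 := hF2 (a', v') i
      rw [← e, h6] at h7
      exact h7
    exact Prod.ext (Subtype.ext h4) (funext h5)
  have := cls_finite (PK K J3) u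
  have h8 := Nat.card_le_card_of_injective F hinj
  rw [Nat.card_prod, card_ne_zero _ rfl, Nat.card_fun, Nat.card_fin] at h8
  exact h8

end Cfsg.Agent.H930.FE
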