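import Cfsg.Agent.H930.FC.Crd

/-!
# `F₄`: the tables of the parabolic of type `C₃`, characteristic 2 (S2452, `F₄(q)`, `q` even)

`IV` : the 15 roots with `0 < x 3`; `I1` : the 8 long roots with `x 3 = 1`; `I2` : the 6 short roots with `x 3 = 1` and
the highest root; `IM` : the 18 roots of `C₃`.
-/

set_option autoImplicit false
set_option linter.unusedSectionVars false

namespace Cfsg.Agent.H930.FE

open Cfsg.Lie Cfsg.Agent.ChevalleyStructure Cfsg.Agent.ChevalleyStructure.RootVec Cfsg.Agent.Nodes.RGDChev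

/-- the roots with `0 < x 3` -/
def IV : List ℕ := [24, 26, 29, 31, 32, 36, 38, 39, 40, 42, 43, 44, 45, 46, 47]

/-- the long roots with `x 3 = 1` -/
def I1 : List ℕ := [24, 26, 31, 32, 42, 43, 45, 46]

/-- the short roots with `x 3 = 1` and the highest root -/
def I2 : List ℕ := [29, 36, 38, 39, 40, 44, 47]

/-- the roots of `C₃` -/
def IM : List ℕ := [6, 10, 12, 13, 14, 17, 19, 20, 22, 25, 27, 28, 30, 33, 34, 35, 37, 41]

/-- the targets -/
def tg (n : ℕ) : ℕ := [24, 26, 31, 32, 42, 43, 45].getD n 0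

/-- the roots of `C₃` which move `24` to the targets -/
def gm (n : ℕ) : ℕ := [25, 30, 28, 41, 35, 37].getD n 0

/-- the exponents -/
def ex (n : ℕ) : ℕ := [1, 1, 2, 1, 2, 2].getD n 0

theorem tabV : ∀ r < chevF4.nroots, (0 < vec chevF4 4 r 3 ↔ r ∈ IV) := by decide +kernel

theorem tabM : ∀ r < chevF4.nroots, (vec chevF4 4 r 3 = 0 ↔ r ∈ IM) := by decide +kernel

theorem lt_IV : ∀ r ∈ IV, r < chevF4.nroots := by decide +kernel

theorem lt_IM : ∀ r ∈ IM, r < chevF4.nroots := by decide +kernel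

theorem I1_sub : ∀ r ∈ I1, r ∈ IV := by decide +kernel

theorem I2_sub : ∀ r ∈ I2, r ∈ IV := by decide +kernel

theorem I1_not : ∀ r ∈ I1, r ∉ I2 := by decide +kernel

theorem IV_cases : ∀ r ∈ IV, r ∈ I1 ∨ r ∈ I2 := by decide +kernel

theorem simple3 : chevF4.simple (3 : Fin 4) = 24 := by decide +kernel

/-- commutators inside `V` -/
theorem tabVV : ∀ r ∈ IV, ∀ s ∈ IV, ∀ c ∈ chevF4.commTerms r s, c.1 ∈ I2 := by decide +kernel

theorem neg_IV : ∀ r ∈ IV, ∀ s ∈ IV, s ≠ chevF4.neg r := by decide +kernel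

theorem neg_IM : ∀ r ∈ IV, ∀ s ∈ IM, s ≠ r ∧ s ≠ chevF4.neg r := by decide +kernel

/-- commutators with `C₃` -/
theorem tabMV : ∀ r ∈ IV, ∀ s ∈ IM, ∀ c ∈ chevF4.commTerms r s, c.1 ∈ IV := by decide +kernel

theorem gm_mem : ∀ n < 6, gm n ∈ IM := by decide +kernel

theorem tg_mem : ∀ n < 7, tg n ∈ I1 := by decide +kernel

theorem tg_inj : ∀ m < 7, ∀ n < 7, tg m = tg n → m = n := by decide +kernel

/-- the coordinates of the targets, modulo 2 -/
theorem tabC : ∀ n < 6, ∀ r ∈ IV, ∀ m ≤ n + 1,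
    (chevF4.commTerms r (gm n)).filter (fun c => c.1 = tg m ∧ c.2.1 % 2 ≠ 0) =
      if m = n + 1 ∧ r = 24 then [(tg m, (if n = 2 then -1 else 1 : ℤ), 1, ex n)] else [] := by decide +kernel

/-- the reflections -/
theorem tabR : ∀ i : Fin 4, i ≠ 3 → ∀ r ∈ IV, chevF4.reflectRoot i r ∈ IV := by decide +kernel

theorem tabR1 : ∀ i : Fin 4, i ≠ 3 → ∀ r ∈ I1, chevF4.reflectRoot i r ∈ I1 := by decide +kernel

theorem tabR2 : ∀ i : Fin 4, i ≠ 3 → ∀ r ∈ IV, chevF4.reflectRoot i (chevF4.reflectRoot i r) = r := by decide +kernel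

theorem reach1 : chevF4.reflectRoot (2 : Fin 4) 24 = 26 ∧ chevF4.reflectRoot (1 : Fin 4) 26 = 31 ∧
    chevF4.reflectRoot (2 : Fin 4) 31 = 32 ∧ chevF4.reflectRoot (0 : Fin 4) 31 = 42 ∧
    chevF4.reflectRoot (0 : Fin 4) 32 = 43 ∧ chevF4.reflectRoot (1 : Fin 4) 43 = 45 ∧
    chevF4.reflectRoot (2 : Fin 4) 45 = 46 := by decide +kernel

theorem cart24 : chevF4.cartan (2 : Fin 4) 24 = -1 := by decide +kernel

end Cfsg.Agent.H930.FE
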